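import Groth.Prelude.Def_Wider
import Mathlib.Algebra.Homology.Single
import Mathlib.Algebra.Homology.QuasiIso
import Mathlib.Algebra.Homology.ShortComplex.ModuleCat
import Mathlib.Algebra.Category.ModuleCat.Abelian
import Mathlib.LinearAlgebra.DFinsupp
import Mathlib.Algebra.DirectSum.Module

/-!
# Resolving torsion modules by sums of `R ⧸ I ^ n`
-/

set_option autoImplicit false

noncomputable section

universe u

open CategoryTheory Limits LocCoh

namespace Groth.Agent.LocCohTorRes

variable {R : Type u} [CommRing R] (I : Ideal R)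

/-- Torsion modules. -/
structure Tors : Type (u + 1) where
  /-- underlying module -/
  M : ModuleCat.{u} R
  tors : IsPowerTorsion I M

variable {I}

/-- Exponent of an element. -/
def expo (T : Tors I) (m : T.M) : ℕ := (T.tors m).choose

/-- The covering sum. -/
abbrev Over (T : Tors I) : ModuleCat.{u} R :=
  ModuleCat.of R (DirectSum T.M fun m => R ⧸ I ^ expo T m)

/-- The covering map. -/
def cover (T : Tors I) : Over T ⟶ T.M :=
  ModuleCat.ofHom (by
    classical
    exact DirectSum.toModule R T.M T.M fun m => Submodule.liftQ _ (LinearMap.toSpanSingleton R T.M m)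
      fun a ha => (T.tors m).choose_spec a ha)

lemma cover_surjective (T : Tors I) : Function.Surjective (cover T).hom := fun m => by
  classical
  refine ⟨DirectSum.lof R T.M (fun m => R ⧸ I ^ expo T m) m (Submodule.Quotient.mk 1), ?_⟩
  simp only [cover, ModuleCat.hom_ofHom]
  exact (DirectSum.toModule_lof R _ _).trans (one_smul R m)

lemma tors_over (T : Tors I) : IsPowerTorsion I (Over T) := fun x => by
  classical
  induction x using DirectSum.induction_on with
  | zero => exact ⟨0, fun a _ => smul_zero _⟩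
  | of m q =>
    obtain ⟨r, rfl⟩ := Submodule.Quotient.mk_surjective _ q
    refine ⟨expo T m, fun a ha => ?_⟩
    show a • DirectSum.lof R T.M (fun m => R ⧸ I ^ expo T m) m (Submodule.Quotient.mk r) = 0
    rw [← map_smul, ← Submodule.Quotient.mk_smul,
      (Submodule.Quotient.mk_eq_zero _).2 ((smul_eq_mul a r).symm ▸ (I ^ expo T m).mul_mem_right r ha), map_zero]
  | add x y hx hy =>
    obtain ⟨a, ha⟩ := hx
    obtain ⟨b, hb⟩ := hy
    exact ⟨max a b, fun c hc => by
      rw [smul_add, ha c (Ideal.pow_le_pow_right (le_max_left a b) hc),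
        hb c (Ideal.pow_le_pow_right (le_max_right a b) hc), add_zero]⟩

/-- The kernel, again torsion. -/
def syz {X : Tors I} {Y : ModuleCat.{u} R} (f : X.M ⟶ Y) : Tors I :=
  ⟨ModuleCat.of R (LinearMap.ker f.hom), fun x => (X.tors x.1).imp fun _ h a ha => Subtype.ext (h a ha)⟩

/-- One step: `Over (syz f) ⟶ X`. -/
def dd {X : Tors I} {Y : ModuleCat.{u} R} (f : X.M ⟶ Y) : Over (syz f) ⟶ X.M :=
  cover (syz f) ≫ ModuleCat.ofHom (LinearMap.ker f.hom).subtype

lemma dd_comp {X : Tors I} {Y : ModuleCat.{u} R} (f : X.M ⟶ Y) : dd f ≫ f = 0 := by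
  refine ModuleCat.hom_ext (LinearMap.ext fun x => ?_)
  exact ((cover (syz f)) x).2

lemma exact_dd {X : Tors I} {Y : ModuleCat.{u} R} (f : X.M ⟶ Y) :
    Function.Exact (dd f).hom f.hom := fun x =>
  ⟨fun hx => by
    obtain ⟨y, hy⟩ := cover_surjective (syz f) ⟨x, hx⟩
    exact ⟨y, congrArg Subtype.val hy⟩, fun ⟨y, hy⟩ => hy ▸ ((cover (syz f)) y).2⟩

variable (T : Tors I)

/-- A consecutive pair. -/
structure Step : Type (u + 1) where
  /-- source -/
  src : Tors I
  /-- target -/
  tgt : ModuleCat.{u} R
  /-- map -/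
  map : src.M ⟶ tgt

/-- The tower. -/
def step : ℕ → Step (I := I)
  | 0 => ⟨⟨Over T, tors_over T⟩, T.M, cover T⟩
  | n + 1 => ⟨⟨Over (syz (step n).map), tors_over _⟩, (step n).src.M, dd (step n).map⟩

/-- The resolution. -/
def res : ChainComplex (ModuleCat.{u} R) ℕ :=
  ChainComplex.of (fun n => (step T n).src.M) (fun n => (step T (n + 1)).map) fun n =>
    dd_comp (step T (n + 1)).map

lemma res_d (n : ℕ) : (res T).d (n + 1) n = (step T (n + 1)).map :=
  ChainComplex.of_d (fun n => (step T n).src.M) (fun n => (step T (n + 1)).map) n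

lemma res_d_one_comp_cover : (res T).d 1 0 ≫ (step T 0).map = 0 :=
  (congrArg (· ≫ (step T 0).map) (res_d T 0)).trans (dd_comp (step T 0).map)

/-- The augmentation. -/
def aug : res T ⟶ (ChainComplex.single₀ (ModuleCat.{u} R)).obj (step T 0).tgt :=
  (ChainComplex.toSingle₀Equiv (res T) (step T 0).tgt).symm ⟨(step T 0).map, res_d_one_comp_cover T⟩

lemma aug_f_zero : (aug T).f 0 = (step T 0).map :=
  ChainComplex.toSingle₀Equiv_symm_apply_f_zero _ _

theorem quasiIso_aug : QuasiIso (aug T) := ⟨fun n => by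
  cases n with
  | zero =>
    rw [ChainComplex.quasiIsoAt₀_iff, ShortComplex.quasiIso_iff_of_zeros']
    · refine (ShortComplex.exact_and_epi_g_iff_of_iso (?_ :
        _ ≅ ShortComplex.mk (step T 1).map (step T 0).map (dd_comp (step T 0).map))).2 ⟨?_, ?_⟩
      · exact ShortComplex.isoMk (Iso.refl _) (Iso.refl _) (Iso.refl _)
          ((Category.id_comp _).trans ((res_d T 0).symm.trans (Category.comp_id _).symm))
          ((Category.id_comp _).trans ((aug_f_zero T).symm.trans (Category.comp_id _).symm))
      · exact (ShortComplex.ShortExact.moduleCat_exact_iff_function_exact _).2 (exact_dd (step T 0).map)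
      · exact (ModuleCat.epi_iff_surjective _).2 (cover_surjective T)
    all_goals rfl
  | succ n =>
    rw [quasiIsoAt_iff_exactAt']
    · rw [HomologicalComplex.exactAt_iff' _ (n + 1 + 1) (n + 1) n (by simp) (by simp)]
      rw [ShortComplex.ShortExact.moduleCat_exact_iff_function_exact]
      have h1 : (res T).d (n + 1 + 1) (n + 1) = (step T (n + 2)).map := res_d T (n + 1)
      have h2 : (res T).d (n + 1) n = (step T (n + 1)).map := res_d T n
      show Function.Exact ((res T).d (n + 1 + 1) (n + 1)).hom ((res T).d (n + 1) n).hom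
      rw [h1, h2]
      exact exact_dd (step T (n + 1)).map
    · exact ChainComplex.exactAt_succ_single_obj _ _⟩

theorem exists_iso_sum (n : ℕ) : ∃ (ι : Type u) (k : ι → ℕ),
    Nonempty ((res T).X n ≅ ModuleCat.of R (DirectSum ι fun j => R ⧸ I ^ k j)) := by
  cases n with
  | zero => exact ⟨T.M, expo T, ⟨Iso.refl _⟩⟩
  | succ n => exact ⟨(syz (step T n).map).M, expo _, ⟨Iso.refl _⟩⟩

end Groth.Agent.LocCohTorRes
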